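import Groth.Agent.Lib.Helper2.Dual.Ext
import Groth.Agent.Lib.Helper7.TwFun
import Groth.Prelude.Def_KLin

/-!
# `- ⊗ F` is `A`-linear on `X.Modules` for `X` over `Spec A` (helper2)
-/

set_option autoImplicit false
universe u
open CategoryTheory CategoryTheory.Limits AlgebraicGeometry TopologicalSpace Opposite

namespace Groth.Agent.Lib.Helper2.ExtLin

open Groth.Agent.Lib.Helper2.Dual Groth.Agent.Lib.Helper2.Mon Groth.Agent.Lib.Helper3
  Groth.Agent.Lib.Helper3.InvTensor Groth.Agent.Lib.Helper3.InvMonoidal Groth.Agent.Lib.Helper7.TwFun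

variable {X : Scheme.{u}}

/-- tensoring multiplication by a global function with the identity is multiplication by that
function -/
theorem tensorMap_smulModΓ (M F : X.Modules) (r : Coh.Γtop X) :
    tensorMap (Formal.smulModΓ M r) (𝟙 F) = Formal.smulModΓ (CohB1.tensorMod M F) r := by
  apply tensor_hom_ext
  intro U m n
  rw [tensorMap_tm]
  change tm M F U ((Formal.smulModΓ M r).app U m) n = (Formal.smulModΓ (CohB1.tensorMod M F) r).app U _
  rw [KLin.smulModΓ_app_apply, KLin.smulModΓ_app_apply, tm_smul_left]

variable (A : Type u) [CommRing A] [X.Over (Spec (CommRingCat.of A))]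

theorem TT_map_smul (F : X.Modules) {M M' : X.Modules} (f : M ⟶ M') (a : A) :
    ((TT X).obj F).map (a • f) = a • ((TT X).obj F).map f := by
  have h1 : a • f = Formal.smulMod A M a ≫ f := rfl
  have h2 : a • ((TT X).obj F).map f =
      Formal.smulMod A (((TT X).obj F).obj M) a ≫ ((TT X).obj F).map f := rfl
  rw [h1, h2, Functor.map_comp]
  congr 1
  show ((DCoh.tensorBi (X := X)).map (Formal.smulMod A M a)).app F = _
  rw [tensorBi_map_app]
  exact tensorMap_smulModΓ M F _

instance linear_TT_obj (F : X.Modules) : ((TT X).obj F).Linear A where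
  map_smul f a := TT_map_smul A F f a

end Groth.Agent.Lib.Helper2.ExtLin
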