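import Groth.Agent.Lib.Helper2.ExtLin.SerreClosed
import Groth.Agent.Lib.Helper7.PnExtA

/-!
# `Ext^i(O_X(-m), ω) = 0` for `m ≫ 0`, `i ≥ 1`, on a closed subscheme of `P^n_A` (helper2)
-/

set_option autoImplicit false
set_option linter.style.haveILetI false
universe u
open CategoryTheory CategoryTheory.Limits AlgebraicGeometry TopologicalSpace Opposite

namespace Groth.Agent.Lib.Helper2.ExtLin

open Groth.Agent.Lib.Helper7 Groth.Agent.Lib.Helper7.TwFun Groth.Agent.Lib.Helper7.TwProj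
  Groth.Agent.Lib.Helper7.RegRes Groth.Agent.Lib.Helper7.PnExt Groth.Agent.Lib.Helper3
  Groth.Agent.Lib.Helper3.InvMonoidal

/-- `ι^*O(a) ⊗ ι^*O(b) ≅ O_X` for `a + b = 0` -/
noncomputable def pullPairIso (A : Type u) [CommRing A] (n : ℕ) {X : Scheme.{u}}
    (ι : X ⟶ CohB1.ProjSpace n A) (a b : ℤ) (h : a + b = 0) :
    CohB1.tensorMod ((Scheme.Modules.pullback ι).obj (Twist.twistProjSpace n A a))
      ((Scheme.Modules.pullback ι).obj (Twist.twistProjSpace n A b)) ≅ Coh.structureModule X :=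
  (PbTensor.pbTensorIso ι _ _ (TwProj.isInvertible_twist (Mumford.hU n A) a)
      (TwProj.isInvertible_twist (Mumford.hU n A) b)).symm ≪≫
    (Scheme.Modules.pullback ι).mapIso (pairIso' (Mumford.hU n A) a b h) ≪≫ PbBasic.pbUnit ι

theorem exists_neg_twist_ext_vanishing (A : Type u) [CommRing A] [IsNoetherianRing A] (n : ℕ)
    {X : Scheme.{u}} (ι : X ⟶ CohB1.ProjSpace n A) [IsClosedImmersion ι] [HasExt.{u} X.Modules]
    (ω : X.Modules) (hω : Coh.IsCoh ((Scheme.Modules.pushforward ι).obj ω)) (i : ℕ) (hi : 1 ≤ i) :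
    ∃ m₀ : ℤ, ∀ m : ℤ, m₀ ≤ m →
      Subsingleton (Abelian.Ext ((Scheme.Modules.pullback ι).obj (Twist.twistProjSpace n A (-m)))
        ω i) := by
  obtain ⟨m₀, h⟩ := serre_vanishing_closed' A n ι ω hω
  refine ⟨m₀, fun m hm => ?_⟩
  have h1 := h m hm i hi
  haveI := isEquivalence_twR ((Scheme.Modules.pullback ι).obj (Twist.twistProjSpace n A m))
    ((Scheme.Modules.pullback ι).obj (Twist.twistProjSpace n A (-m)))
    (pullPairIso A n ι m (-m) (by omega))
  haveI : EnoughInjectives X.Modules :=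
    Groth.Agent.Lib.Helper13.ModGrothendieck.enoughInjectives X.ringCatSheaf
  obtain ⟨eq1⟩ := nonempty_addEquiv
    (twR ((Scheme.Modules.pullback ι).obj (Twist.twistProjSpace n A m)))
    ((Scheme.Modules.pullback ι).obj (Twist.twistProjSpace n A (-m))) (Coh.structureModule X)
    (pullPairIso A n ι (-m) m (by omega)) ω i
  obtain ⟨eq2⟩ := Groth.Agent.Lib.Helper5.ExtUnitHRing.nonempty_addEquiv X.ringCatSheaf
    ((twR ((Scheme.Modules.pullback ι).obj (Twist.twistProjSpace n A m))).obj ω) i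
  haveI h2 : Subsingleton (Coh.HH X
      ((twR ((Scheme.Modules.pullback ι).obj (Twist.twistProjSpace n A m))).obj ω) i) := h1
  exact (eq1.trans eq2).toEquiv.subsingleton

end Groth.Agent.Lib.Helper2.ExtLin
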