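import Groth.Agent.Lib.Helper2.Dual.Comm
import Groth.Agent.Lib.Helper13.DerivedCommute

/-!
# `ℰxt^q(F, G ⊗ D) ≅ ℰxt^q(F, G) ⊗ D` for `D` finite locally free (helper2)
-/

set_option autoImplicit false
universe u
open CategoryTheory CategoryTheory.Limits AlgebraicGeometry TopologicalSpace Opposite

namespace Groth.Agent.Lib.Helper2.ExtLin

open Groth.Agent.Lib.Helper2.Dual Groth.Agent.Lib.Helper13 Groth.Agent.Lib.Helper13.DerivedCommute
  Groth.Agent.Lib.Helper2.ExtShCoh

variable {X : Scheme.{u}}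

theorem nonempty_extSh_tensor_iso (F G D : X.Modules) (hD : FlatMod.IsFinLocFree D)
    [ModSite.HasSheafHom (O := X.sheaf) F] [HasInjectiveResolutions X.Modules] (q : ℕ) :
    Nonempty ((ModSite.extSh (O := X.sheaf) F q).obj (CohB1.tensorMod G D) ≅
      CohB1.tensorMod ((ModSite.extSh (O := X.sheaf) F q).obj G) D) := by
  haveI := pfl_TT D hD
  have e1 := rightDerivedExactCompObjIso ((TT X).obj D)
    (fun I hI => injective_tensor D hD I hI) (HH X F) q G
  have e2 := rightDerivedObjIsoOfNatIso (tensorHomCommIso F D hD) q G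
  have e3 := rightDerivedCompExactObjIso (HH X F) ((TT X).obj D) q G
  exact ⟨e1.symm ≪≫ e2 ≪≫ e3⟩

end Groth.Agent.Lib.Helper2.ExtLin
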