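import Groth.Agent.Lib.Helper2.ExtLin.Main
import Groth.Agent.Lib.Helper2.ExtLin.Twist
import Groth.Agent.Lib.Helper2.ExtLin.NegTwist
import Groth.Agent.Lib.Helper7.Hypersurf
import Groth.Agent.S10943
import Groth.Agent.Lib.Helper17.AmpleFin

/-!
# Duality on `P^n_k`: negative twists versus `ℰxt` sheaves (helper2)
-/

set_option autoImplicit false
set_option linter.style.haveILetI false
universe u
open CategoryTheory CategoryTheory.Limits AlgebraicGeometry TopologicalSpace Opposite

namespace Groth.Agent.Lib.Helper2.ExtLin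

open Groth.Agent.Lib.Helper7 Groth.Agent.Lib.Helper7.TwFun Groth.Agent.Lib.Helper7.TwProj
  Groth.Agent.Lib.Helper7.RegRes Groth.Agent.Lib.Helper7.PnExt Groth.Agent.Lib.Helper3
  Groth.Agent.Lib.Helper3.InvMonoidal Groth.Agent.Lib.Helper2.Dual Groth.Agent.Lib.Helper7.PnDual

variable (n : ℕ) (k : Type u) [Field k]

lemma isCoh_tw (F : (CohB1.ProjSpace n k).Modules) (hF : Coh.IsCoh F) (j : ℤ) :
    Coh.IsCoh (CohB1.tensorMod F (Twist.twistProjSpace n k j)) := by
  haveI := hF.1
  haveI := hF.2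
  exact ⟨Mumford.isQCoh_tw n k F hF.1 j,
    InvCoh.isFiniteType_tensorMod F _ (isInvertible_twist (Mumford.hU n k) j)⟩

/-- a coherent module on `P^n_k` all of whose large twists have no global sections is zero -/
theorem isZero_of_sections_twists_vanish (N : (CohB1.ProjSpace n k).Modules) (hN : Coh.IsCoh N)
    (m₂ : ℤ) (h : ∀ m : ℤ, m₂ ≤ m →
      Subsingleton (Coh.HH (CohB1.ProjSpace n k) (CohB1.tensorMod N (Twist.twistProjSpace n k m)) 0)) :
    IsZero N := by
  have hU := Mumford.hU n k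
  obtain ⟨n₀, c, p, hp⟩ := PnFinite.exists_epi n k _ (isCoh_tw n k N hN m₂)
  haveI := isEquivalence_twR (Twist.twistProjSpace n k (n₀ : ℤ)) (Twist.twistProjSpace n k (-(n₀ : ℤ)))
    (pairIso' hU (n₀ : ℤ) (-(n₀ : ℤ)) (by omega))
  have hp0 : p = 0 := by
    apply Sigma.hom_ext
    intro j
    rw [comp_zero]
    have hb := zeroMap_bijective (twR (Twist.twistProjSpace n k (n₀ : ℤ)))
      (Twist.twistProjSpace n k (-(n₀ : ℤ))) (Coh.structureModule (CohB1.ProjSpace n k))
      (pairIso' hU (-(n₀ : ℤ)) (n₀ : ℤ) (by omega))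
      (CohB1.tensorMod N (Twist.twistProjSpace n k m₂))
    have hsub : Subsingleton (Coh.HH (CohB1.ProjSpace n k)
        ((twR (Twist.twistProjSpace n k (n₀ : ℤ))).obj
          (CohB1.tensorMod N (Twist.twistProjSpace n k m₂))) 0) :=
      (Mumford.sub_shift n k N m₂ (n₀ : ℤ) (m₂ + n₀) rfl 0).mpr (h _ (by omega))
    have hsub2 : Subsingleton (OO (CohB1.ProjSpace n k) ⟶
        (twR (Twist.twistProjSpace n k (n₀ : ℤ))).obj
          (CohB1.tensorMod N (Twist.twistProjSpace n k m₂))) :=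
      (secMap_bijective _).injective.subsingleton
    apply hb.injective
    exact Subsingleton.elim _ _
  have hz : IsZero (CohB1.tensorMod N (Twist.twistProjSpace n k m₂)) := by
    rw [IsZero.iff_id_eq_zero, ← cancel_epi p, hp0, zero_comp, zero_comp]
  have e := cancelIso (Twist.twistProjSpace n k m₂) (Twist.twistProjSpace n k (-m₂))
    (pairIso' hU m₂ (-m₂) (by omega)) N
  exact IsZero.of_iso ((twR (Twist.twistProjSpace n k (-m₂))).map_isZero hz) e.symm

section Edge

variable [HasExt.{u} (CohB1.ProjSpace n k).Modules]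
  (F : (CohB1.ProjSpace n k).Modules) (hF : Coh.IsCoh F)
  [ModSite.HasSheafHom (O := (CohB1.ProjSpace n k).sheaf) F]
  [HasInjectiveResolutions (ModSite.Mod (CohB1.ProjSpace n k).sheaf)]

include hF in
/-- Step B: `Ext^j(F, G(d)) = 0 ↔ Γ(ℰxt^j(F, G)(d)) = 0` for `d ≫ 0` -/
theorem exists_twist_edge_iff (G : (CohB1.ProjSpace n k).Modules) (hG : Coh.IsCoh G) (j : ℕ) :
    ∃ d₀ : ℤ, ∀ d : ℤ, d₀ ≤ d →
      (Subsingleton (Abelian.Ext F (CohB1.tensorMod G (Twist.twistProjSpace n k d)) j) ↔
        Subsingleton (Coh.HH (CohB1.ProjSpace n k) (CohB1.tensorMod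
          ((ModSite.extSh (O := (CohB1.ProjSpace n k).sheaf) F j).obj G)
          (Twist.twistProjSpace n k d)) 0)) := by
  haveI h1 : HasInjectiveResolutions (CohB1.ProjSpace n k).Modules :=
    ‹HasInjectiveResolutions (ModSite.Mod (CohB1.ProjSpace n k).sheaf)›
  haveI : IsNoetherian (CohB1.ProjSpace n k) := Groth.Agent.S2357.result (CohB1.polyGrading n k)
  have hL : ∀ d : ℤ, FlatMod.IsFinLocFree (Twist.twistProjSpace n k d) := fun d =>
    Groth.Agent.Lib.Helper17.AmpleFin.isFinLocFree_of_isInvertible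
      (TwProj.isInvertible_twist (Mumford.hU n k) d)
  have hcoh : ∀ q : ℕ, Coh.IsCoh
      ((ModSite.extSh (O := (CohB1.ProjSpace n k).sheaf) F q).obj G) := fun q =>
    Groth.Agent.S10943.result (CohB1.ProjSpace n k) F G hF hG q
  choose dq hdq using fun q : ℕ => SerreVan.serre_vanishing n k _ (hcoh q)
  refine ⟨((Finset.range j).sup (fun q => (dq q).toNat) : ℕ), fun d hd => ?_⟩
  obtain ⟨e1⟩ := nonempty_ext_linearEquiv_sections k F
    (CohB1.tensorMod G (Twist.twistProjSpace n k d)) j (fun p q hp hq => by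
      obtain ⟨e⟩ := nonempty_extSh_tensor_iso F G _ (hL d) q
      refine subsingleton_HH_of_iso e p (hdq q d ?_ p hp)
      have h2 : (dq q).toNat ≤ (Finset.range j).sup (fun q => (dq q).toNat) :=
        Finset.le_sup (f := fun q => (dq q).toNat) (Finset.mem_range.mpr hq)
      have h3 := Int.self_le_toNat (dq q)
      omega)
  obtain ⟨e2⟩ := nonempty_extSh_tensor_iso F G _ (hL d) j
  constructor
  · intro h
    haveI := h
    exact subsingleton_HH_of_iso e2.symm 0 e1.symm.toEquiv.subsingleton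
  · intro h
    haveI : Subsingleton (Coh.HH (CohB1.ProjSpace n k)
        ((ModSite.extSh (O := (CohB1.ProjSpace n k).sheaf) F j).obj
          (CohB1.tensorMod G (Twist.twistProjSpace n k d))) 0) := subsingleton_HH_of_iso e2 0 h
    exact e1.toEquiv.subsingleton

include hF in
/-- Step A: `H^p(F(-m)) = 0 ↔ Ext^{n-p}(F, ω(m)) = 0` -/
theorem neg_twist_iff_ext (p : ℕ) (hp : p ≤ n) (m : ℤ) :
    Subsingleton (Coh.HH (CohB1.ProjSpace n k)
        (CohB1.tensorMod F (Twist.twistProjSpace n k (-m))) p) ↔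
      Subsingleton (Abelian.Ext F
        (CohB1.tensorMod (omega n k) (Twist.twistProjSpace n k m)) (n - p)) := by
  have hU := Mumford.hU n k
  haveI : EnoughInjectives (CohB1.ProjSpace n k).Modules :=
    Groth.Agent.Lib.Helper13.ModGrothendieck.enoughInjectives (CohB1.ProjSpace n k).ringCatSheaf
  haveI := isEquivalence_twR (Twist.twistProjSpace n k m) (Twist.twistProjSpace n k (-m))
    (pairIso' hU m (-m) (by omega))
  have h1 := pp_all n k (n - p) (by omega) _ (isCoh_tw n k F hF (-m))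
  have h2 : n - (n - p) = p := by omega
  rw [h2] at h1
  obtain ⟨eq1⟩ := nonempty_addEquiv (twR (Twist.twistProjSpace n k m))
    (CohB1.tensorMod F (Twist.twistProjSpace n k (-m))) F
    (cancelIso (Twist.twistProjSpace n k (-m)) (Twist.twistProjSpace n k m)
      (pairIso' hU (-m) m (by omega)) F) (omega n k) (n - p)
  rw [← h1]
  exact ⟨fun h => by haveI := h; exact eq1.symm.toEquiv.subsingleton,
    fun h => by
      haveI : Subsingleton (Abelian.Ext F
        ((twR (Twist.twistProjSpace n k m)).obj (omega n k)) (n - p)) := h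
      exact eq1.toEquiv.subsingleton⟩

include hF in
/-- **`H^p(P, F(-m)) = 0` for `m ≫ 0` iff `ℰxt^{n-p}(F, ω_P) = 0`** -/
theorem neg_twist_vanishing_iff (p : ℕ) (hp : p ≤ n) :
    (∃ m₀ : ℤ, ∀ m : ℤ, m₀ ≤ m → Subsingleton (Coh.HH (CohB1.ProjSpace n k)
        (CohB1.tensorMod F (Twist.twistProjSpace n k (-m))) p)) ↔
      IsZero ((ModSite.extSh (O := (CohB1.ProjSpace n k).sheaf) F (n - p)).obj (omega n k)) := by
  haveI : IsNoetherian (CohB1.ProjSpace n k) := Groth.Agent.S2357.result (CohB1.polyGrading n k)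
  have hωc : Coh.IsCoh (omega n k) := PnFinite.isCoh_twist n k _
  obtain ⟨d₀, hd₀⟩ := exists_twist_edge_iff n k F hF (omega n k) hωc (n - p)
  have hN : Coh.IsCoh ((ModSite.extSh (O := (CohB1.ProjSpace n k).sheaf) F (n - p)).obj (omega n k)) :=
    Groth.Agent.S10943.result (CohB1.ProjSpace n k) F _ hF hωc (n - p)
  constructor
  · rintro ⟨m₀, h⟩
    refine isZero_of_sections_twists_vanish n k _ hN (max m₀ d₀) (fun m hm => ?_)
    exact (hd₀ m ((le_max_right _ _).trans hm)).mp
      ((neg_twist_iff_ext n k F hF p hp m).mp (h m ((le_max_left _ _).trans hm)))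
  · intro hz
    refine ⟨d₀, fun m hm => ?_⟩
    refine (neg_twist_iff_ext n k F hF p hp m).mpr ((hd₀ m hm).mpr ?_)
    exact Hypersurf.subsingleton_HH_of_isZero _
      ((twR (Twist.twistProjSpace n k m)).map_isZero hz) 0

end Edge

end Groth.Agent.Lib.Helper2.ExtLin
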