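import Groth.Agent.Lib.Helper13.AbutBasic

/-!
# The edge isomorphism `H^m ≅ E_2^{0,m}` of a first-quadrant-like spectral sequence (helper2)
-/

set_option autoImplicit false
universe v u
open CategoryTheory CategoryTheory.Limits

namespace Groth.Agent.Lib.Helper2.ExtLin

variable {C : Type u} [Category.{v} C] [Abelian C]
  {E : E₂CohomologicalSpectralSequence C} {H : ℤ → C}

open Groth.Agent.Lib.Helper13 in
/-- if `E_2^{p,q} = 0` for `p < 0`, and for `p ≠ 0`, `q < m`, then `H^m ≅ E_2^{0,m}`. -/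
theorem nonempty_abut_iso_edge (a : SpSeq.Abutment E H) (m : ℤ) (hfin : a.IsFinite m)
    (hz : ∀ p q : ℤ, p ≠ 0 → q < m → IsZero ((E.page 2 le_rfl).X (p, q)))
    (hneg : ∀ p q : ℤ, p < 0 → IsZero ((E.page 2 le_rfl).X (p, q))) :
    Nonempty (H m ≅ (E.page 2 le_rfl).X (0, m)) := by
  obtain ⟨⟨t, ht⟩, ⟨b, hb⟩⟩ := hfin
  have ht' : a.fil m t = ⊤ := ht
  have hb' : a.fil m b = ⊥ := hb
  refine nonempty_iso_page_of_single a m (0, m) (by simp) 2 le_rfl ?_ ⟨b, hb'⟩ ?_ ?_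
  · intro p hp
    rcases lt_or_gt_of_ne hp with h | h
    · exact hneg p _ h
    · exact hz p _ hp (by simp at h ⊢; omega)
  · refine ⟨fun x hx => le_top, fun x hx => hx ⟨t, ht'⟩⟩
  · refine ⟨le_rfl, fun r' h₀ hr => ⟨?_, ?_⟩⟩
    · have h1 : IsZero ((E.page r' h₀).X ((0, m) - (r', 1 - r'))) :=
        isZero_page_of_le E _ 2 le_rfl (hneg _ _ (by simp; omega)) r' hr
      exact h1.eq_of_src _ _
    · have h1 : IsZero ((E.page r' h₀).X ((0, m) + (r', 1 - r'))) :=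
        isZero_page_of_le E _ 2 le_rfl (hz _ _ (by simp; omega) (by simp; omega)) r' hr
      exact h1.eq_of_tgt _ _

end Groth.Agent.Lib.Helper2.ExtLin
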