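import Mathlib

/-!
# `Ext` in a linear abelian category as linear right derived functor of `Hom` (helper2)

For an `A`-linear abelian category `C` with injective resolutions, the right derived functors of
`Hom_A(F, -) : C ⥤ ModuleCat A` are `A`-linearly isomorphic to the `Ext`-modules.
-/

set_option autoImplicit false
universe w v u
open CategoryTheory CategoryTheory.Limits Opposite CategoryTheory.Abelian

namespace Groth.Agent.Lib.Helper2.ExtLin

variable {C : Type u} [Category.{v} C] [Abelian C] [HasExt.{v} C]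
  (A : Type w) [CommRing A] [Linear A C]

/-- `Hom_A(F, -)` -/
noncomputable abbrev coy (F : C) : C ⥤ ModuleCat.{v} A := (linearCoyoneda A C).obj (op F)

/-- multiplication by `a` on an injective resolution lifts multiplication by `a`. -/
noncomputable def smulHom {G : C} (I : InjectiveResolution G) (a : A) :
    InjectiveResolution.Hom I I (a • 𝟙 G) where
  hom := a • 𝟙 _
  ι_f_zero_comp_hom_f_zero := by
    simp [CochainComplex.single₀_map_f_zero]

lemma smul_extMk {F G : C} (I : InjectiveResolution G) {n : ℕ} (f : F ⟶ I.cocomplex.X n)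
    (m : ℕ) (hm : n + 1 = m) (hf : f ≫ I.cocomplex.d n m = 0) (a : A) :
    a • I.extMk f m hm hf = I.extMk (a • f) m hm (by rw [Linear.smul_comp, hf, smul_zero]) := by
  rw [Ext.smul_eq_comp_mk₀, InjectiveResolution.extMk_comp_mk₀ f m hm hf (smulHom A I a)]
  congr 1
  change f ≫ (a • 𝟙 I.cocomplex).f n = a • f
  rw [HomologicalComplex.smul_f_apply, HomologicalComplex.id_f, Linear.comp_smul, Category.comp_id]

section Compute

variable {F G : C} (I : InjectiveResolution G) (m : ℕ)

/-- the complex `Hom_A(F, I^•)` -/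
noncomputable abbrev KK : CochainComplex (ModuleCat.{v} A) ℕ :=
  ((coy A F).mapHomologicalComplex _).obj I.cocomplex

/-- the short complex `Hom(F, I^m) → Hom(F, I^{m+1}) → Hom(F, I^{m+2})` -/
noncomputable abbrev SS' : ShortComplex (ModuleCat.{v} A) :=
  (KK A (F := F) I).sc' m (m + 1) (m + 2)

lemma SS'_g_apply (z : F ⟶ I.cocomplex.X (m + 1)) :
    (SS' A (F := F) I m).g.hom z = z ≫ I.cocomplex.d (m + 1) (m + 2) := rfl

lemma SS'_f_apply (z : F ⟶ I.cocomplex.X m) :
    (SS' A (F := F) I m).f.hom z = z ≫ I.cocomplex.d m (m + 1) := rfl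

/-- cocycles to `Ext` -/
noncomputable def psi : LinearMap.ker (SS' A (F := F) I m).g.hom →ₗ[A] Ext F G (m + 1) where
  toFun z := I.extMk (z.1 : F ⟶ I.cocomplex.X (m + 1)) (m + 2) rfl
    ((SS'_g_apply A I m _).symm.trans (LinearMap.mem_ker.mp z.2))
  map_add' z z' := by
    rw [InjectiveResolution.add_extMk]
    rfl
  map_smul' a z := by
    rw [RingHom.id_apply, smul_extMk]
    rfl

lemma psi_apply (z : LinearMap.ker (SS' A (F := F) I m).g.hom) :
    psi A I m z = I.extMk (z.1 : F ⟶ I.cocomplex.X (m + 1)) (m + 2) rfl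
      ((SS'_g_apply A I m _).symm.trans (LinearMap.mem_ker.mp z.2)) := rfl

lemma psi_surjective : Function.Surjective (psi A (F := F) I m) := by
  intro α
  obtain ⟨f, hf, h⟩ := I.extMk_surjective α (m + 2) rfl
  exact ⟨⟨f, LinearMap.mem_ker.mpr ((SS'_g_apply A I m f).trans hf)⟩, h⟩

lemma ker_psi : LinearMap.ker (psi A (F := F) I m) =
    LinearMap.range (SS' A (F := F) I m).moduleCatToCycles := by
  ext z
  rw [LinearMap.mem_ker, LinearMap.mem_range, psi_apply,
    InjectiveResolution.extMk_eq_zero_iff _ _ _ _ _ m rfl]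
  constructor
  · rintro ⟨g, hg⟩
    exact ⟨g, Subtype.ext hg⟩
  · rintro ⟨g, hg⟩
    exact ⟨g, congrArg Subtype.val hg⟩

/-- `H^{m+1}(Hom_A(F, I^•)) ≅ Ext^{m+1}(F, G)` -/
noncomputable def homologyIsoExt :
    (KK A (F := F) I).homology (m + 1) ≅ ModuleCat.of A (Ext F G (m + 1)) :=
  ShortComplex.homologyMapIso ((KK A (F := F) I).isoSc' m (m + 1) (m + 2) (by simp) (by simp)) ≪≫
    (SS' A (F := F) I m).moduleCatHomologyIso ≪≫
    ((Submodule.quotEquivOfEq _ _ (ker_psi A I m).symm).trans
      (LinearMap.quotKerEquivOfSurjective _ (psi_surjective A I m))).toModuleIso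

end Compute

section Derived

variable [HasInjectiveResolutions C]

instance preservesFiniteLimits_coy (F : C) : PreservesFiniteLimits (coy A F) := by
  haveI : PreservesLimitsOfSize.{0, 0} (coy A F ⋙ forget (ModuleCat.{v} A)) :=
    inferInstanceAs (PreservesLimitsOfSize.{0, 0} (coyoneda.obj (op F)))
  haveI : PreservesLimitsOfSize.{0, 0} (coy A F) :=
    preservesLimits_of_reflects_of_preserves (coy A F) (forget (ModuleCat.{v} A))
  exact PreservesLimitsOfSize.preservesFiniteLimits _

/-- the right derived functors of `Hom_A(F, -)` are the `Ext`-modules -/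
theorem nonempty_rightDerived_coy_iso (F G : C) (n : ℕ) :
    Nonempty (((coy A F).rightDerived n).obj G ≅ ModuleCat.of A (Ext F G n)) := by
  cases n with
  | zero =>
    exact ⟨(coy A F).rightDerivedZeroIsoSelf.app G ≪≫
      (Ext.linearEquiv₀ (R := A) (X := F) (Y := G)).symm.toModuleIso⟩
  | succ m =>
    exact ⟨(injectiveResolution G).isoRightDerivedObj (coy A F) (m + 1) ≪≫
      homologyIsoExt A (injectiveResolution G) m⟩

end Derived

end Groth.Agent.Lib.Helper2.ExtLin
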