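import Groth.Agent.Lib.Helper2.ExtLin.TensorLinear
import Groth.Agent.Lib.Helper2.ExtLin.ExtCompute
import Groth.Agent.Lib.Helper13.DerivedCommute
import Groth.Agent.Lib.Helper13.ModSiteUnitor

/-!
# `Hom_A(O, ℋom(F, -)) ≅ Hom_A(F, -)` as functors to `A`-modules; derived functors (helper2)
-/

set_option autoImplicit false
universe u
open CategoryTheory CategoryTheory.Limits AlgebraicGeometry TopologicalSpace Opposite
open CategoryTheory.Abelian

namespace Groth.Agent.Lib.Helper2.ExtLin

open Groth.Agent.Lib.Helper2.Dual Groth.Agent.Lib.Helper13 Groth.Agent.Lib.Helper13.DerivedCommute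

variable (A : Type u) [CommRing A] {X : Scheme.{u}} [X.Over (Spec (CommRingCat.of A))]

/-- `O ⊗ F ≅ F` -/
noncomputable def lam (F : X.Modules) : ((TT X).obj F).obj (OO X) ≅ F :=
  (ModSiteUnitor.leftUnitorIso X.sheaf).app F

/-- `Hom(O, ℋom(F, G)) ≃ₗ[A] Hom(F, G)` -/
noncomputable def homLinEquiv (F G : X.Modules) [ModSite.HasSheafHom (O := X.sheaf) F] :
    (OO X ⟶ (HH X F).obj G) ≃ₗ[A] (F ⟶ G) where
  toFun g := (lam F).inv ≫ ((adjH X F).homEquiv _ _).symm g
  invFun f := (adjH X F).homEquiv _ _ ((lam F).hom ≫ f)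
  left_inv g := by simp
  right_inv f := by simp
  map_add' g g' := by
    have h : ((adjH X F).homEquiv (OO X) G).symm (g + g') =
        ((adjH X F).homEquiv (OO X) G).symm g + ((adjH X F).homEquiv (OO X) G).symm g' :=
      ((adjH X F).homAddEquiv (OO X) G).symm.map_add g g'
    rw [h, Preadditive.comp_add]
  map_smul' a g := by
    have h1 : a • g = (a • 𝟙 (OO X)) ≫ g := by rw [Linear.smul_comp, Category.id_comp]
    rw [RingHom.id_apply, h1, Adjunction.homEquiv_naturality_left_symm, Functor.map_smul,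
      CategoryTheory.Functor.map_id, Linear.smul_comp, Category.id_comp, Linear.comp_smul]

/-- `Hom_A(O, ℋom(F, -)) ≅ Hom_A(F, -)` -/
noncomputable def phiIso (F : X.Modules) [ModSite.HasSheafHom (O := X.sheaf) F] :
    HH X F ⋙ coy A (OO X) ≅ coy A F :=
  NatIso.ofComponents (fun G => (homLinEquiv A F G).toModuleIso) (by
    intro G G' φ
    ext g
    change (lam F).inv ≫ ((adjH X F).homEquiv _ _).symm (g ≫ (HH X F).map φ) =
      ((lam F).inv ≫ ((adjH X F).homEquiv _ _).symm g) ≫ φ
    rw [Adjunction.homEquiv_naturality_right_symm, Category.assoc])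

/-- the right derived functors of `Hom_A(O, ℋom(F, -))` are the `Ext`-modules -/
theorem nonempty_rightDerived_iso (F G : X.Modules) [ModSite.HasSheafHom (O := X.sheaf) F]
    [HasInjectiveResolutions X.Modules] [HasExt.{u} X.Modules] (n : ℕ) :
    Nonempty (((HH X F ⋙ coy A (OO X)).rightDerived n).obj G ≅ ModuleCat.of A (Ext F G n)) := by
  obtain ⟨e⟩ := nonempty_rightDerived_coy_iso A F G n
  exact ⟨rightDerivedObjIsoOfNatIso (phiIso A F) n G ≪≫ e⟩

end Groth.Agent.Lib.Helper2.ExtLin
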