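import Groth.Agent.Lib.Helper2.ExtLin.Sections
import Groth.Agent.Lib.Helper2.ExtLin.Edge
import Groth.Agent.Lib.Helper2.GSS.Main

/-!
# `Ext^m(F, G) ≃ₗ[A] Γ(X, ℰxt^m(F, G))` when the lower `ℰxt` sheaves are `Γ`-acyclic (helper2)
-/

set_option autoImplicit false
universe u
open CategoryTheory CategoryTheory.Limits AlgebraicGeometry TopologicalSpace Opposite
open CategoryTheory.Abelian

namespace Groth.Agent.Lib.Helper2.ExtLin

open Groth.Agent.Lib.Helper2.Dual Groth.Agent.Lib.Helper13 Groth.Agent.Lib.Helper13.DerivedCommute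
  Groth.Agent.Lib.Helper2.ExtUnitH Groth.Agent.Lib.Helper2.ModHomAcyclic Groth.Agent.Lib.Helper2.GSS

variable (A : Type u) [CommRing A] {X : Scheme.{u}} [X.Over (Spec (CommRingCat.of A))]
  [HasInjectiveResolutions X.Modules] [HasExt.{u} X.Modules]

/-- `coy A O ⋙ forget₂ ≅ Hom(O, -)` -/
noncomputable def coyForgetIso :
    coy A (OO X) ⋙ forget₂ (ModuleCat.{u} A) AddCommGrpCat.{u} ≅ homF (OO X) :=
  NatIso.ofComponents (fun _ => Iso.refl _)

/-- the derived functors of `Hom_A(O, -)` vanish where sheaf cohomology does -/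
theorem isZero_rightDerived_coy_of_subsingleton (N : X.Modules) (p : ℕ)
    (h : Subsingleton (Coh.HH X N p)) : IsZero (((coy A (OO X)).rightDerived p).obj N) := by
  obtain ⟨e5⟩ := nonempty_iso X.sheaf N p
  have e : (forget₂ (ModuleCat.{u} A) AddCommGrpCat.{u}).obj (((coy A (OO X)).rightDerived p).obj N) ≅
      AddCommGrpCat.of (Coh.HH X N p) :=
    (rightDerivedCompExactObjIso (coy A (OO X)) (forget₂ (ModuleCat.{u} A) AddCommGrpCat.{u}) p N).symm ≪≫
      rightDerivedObjIsoOfNatIso (coyForgetIso A) p N ≪≫ rightDerivedHomFIso (OO X) N p ≪≫ e5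
  have hz : IsZero ((forget₂ (ModuleCat.{u} A) AddCommGrpCat.{u}).obj
      (((coy A (OO X)).rightDerived p).obj N)) :=
    IsZero.of_iso (AddCommGrpCat.isZero_of_subsingleton _) e
  haveI : Subsingleton (((coy A (OO X)).rightDerived p).obj N) :=
    AddCommGrpCat.subsingleton_of_isZero hz
  exact ModuleCat.isZero_of_subsingleton _

/-- **the edge isomorphism of the local-to-global spectral sequence, `A`-linearly**: if
`H^p(X, ℰxt^q(F, G)) = 0` for `p > 0` and `q < m`, then `Ext^m(F, G) ≃ₗ[A] Γ(X, ℰxt^m(F, G))`. -/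
theorem nonempty_ext_linearEquiv_sections (F G : X.Modules)
    [ModSite.HasSheafHom (O := X.sheaf) F] (m : ℕ)
    (hvan : ∀ p q : ℕ, 0 < p → q < m →
      Subsingleton (Coh.HH X ((ModSite.extSh (O := X.sheaf) F q).obj G) p)) :
    Nonempty (Ext F G m ≃ₗ[A] Coh.HH X ((ModSite.extSh (O := X.sheaf) F m).obj G) 0) := by
  obtain ⟨E, a, hfin, -, h2, h0⟩ := grothendieck_ss (HH X F) (coy A (OO X))
    (fun Q hQ q hq => by
      obtain ⟨q', rfl⟩ : ∃ q', q = q' + 1 := ⟨q - 1, by omega⟩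
      haveI hQ' : Injective (C := ModSite.Mod X.sheaf) Q := hQ
      exact isZero_rightDerived_coy_of_subsingleton A _ _
        (subsingleton_H_of_isTotallyAcyclic _ _ (isTotallyAcyclic_sheafHom X.sheaf F Q) q'))
    G (fun n : ℤ => if 0 ≤ n then ModuleCat.of A (Ext F G n.toNat) else ModuleCat.of A PUnit.{u+1})
    (fun n => by
      obtain ⟨e⟩ := nonempty_rightDerived_iso A F G n
      refine ⟨?_ ≪≫ e.symm⟩
      have h : (0 : ℤ) ≤ (n : ℤ) := Int.natCast_nonneg n
      simp only [h, if_true, Int.toNat_natCast]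
      exact Iso.refl _)
    (fun n hn => by
      have h : ¬ (0 : ℤ) ≤ n := by omega
      simp only [h, if_false]
      exact ModuleCat.isZero_of_subsingleton _)
  obtain ⟨e1⟩ := nonempty_abut_iso_edge a (m : ℤ) (hfin m)
    (fun p q hp hq => by
      by_cases hneg : p < 0 ∨ q < 0
      · exact h0 p q hneg
      · rw [not_or, not_lt, not_lt] at hneg
        obtain ⟨p', rfl⟩ := Int.eq_ofNat_of_zero_le hneg.1
        obtain ⟨q', rfl⟩ := Int.eq_ofNat_of_zero_le hneg.2
        obtain ⟨e⟩ := h2 p' q'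
        refine IsZero.of_iso ?_ e
        exact isZero_rightDerived_coy_of_subsingleton A _ _
          (hvan p' q' (by omega) (by omega)))
    (fun p q hp => h0 p q (Or.inl hp))
  obtain ⟨e2⟩ := h2 0 m
  have h : (0 : ℤ) ≤ (m : ℤ) := Int.natCast_nonneg m
  simp only [h, if_true, Int.toNat_natCast] at e1
  have e3 : ModuleCat.of A (Ext F G m) ≅
      ModuleCat.of A (Coh.HH X ((ModSite.extSh (O := X.sheaf) F m).obj G) 0) :=
    e1 ≪≫ e2 ≪≫ (coy A (OO X)).rightDerivedZeroIsoSelf.app _ ≪≫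
      (secLinEquiv A ((ModSite.extSh (O := X.sheaf) F m).obj G)).toModuleIso
  exact ⟨e3.toLinearEquiv⟩

end Groth.Agent.Lib.Helper2.ExtLin
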