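import Groth.Agent.Lib.Helper2.ExtLin.HomLin
import Groth.Agent.Lib.Helper2.ExtUnitH
import Groth.Agent.Lib.Helper2.GSS.HomFunctor

/-!
# `Hom_A(O, N) ≃ₗ[A] H^0(X, N)` and the derived functors of `Hom_A(O, -)` (helper2)
-/

set_option autoImplicit false
universe u
open CategoryTheory CategoryTheory.Limits AlgebraicGeometry TopologicalSpace Opposite
open CategoryTheory.Abelian

namespace Groth.Agent.Lib.Helper2.ExtLin

open Groth.Agent.Lib.Helper2.Dual Groth.Agent.Lib.Helper13 Groth.Agent.Lib.Helper13.DerivedCommute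
  Groth.Agent.Lib.Helper2.ExtUnitH Groth.Agent.Lib.Helper2.ModHomAcyclic Groth.Agent.Lib.Helper2.GSS

variable (A : Type u) [CommRing A] {X : Scheme.{u}} [X.Over (Spec (CommRingCat.of A))]

lemma toAbF_smulMod (N : X.Modules) (a : A) :
    (toAbF X.sheaf).map (Formal.smulMod A N a) =
      Coh.smulAb N (Coh.toGlobal (X ↘ Spec (CommRingCat.of A)) a) := rfl

/-- the additive map `Hom(O, N) → H^0(X, N)` -/
noncomputable def secMap (N : X.Modules) : (OO X ⟶ N) →+ Coh.HH X N 0 :=
  (Ext.addEquiv₀ (X := constZ (Opens.grothendieckTopology X)) (Y := ModSite.toAb N)).symm.toAddMonoidHom.comp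
    (zeroMap X.sheaf N)

lemma secMap_apply (N : X.Modules) (f : OO X ⟶ N) :
    secMap N f = Ext.mk₀ (eta X.sheaf ≫ (toAbF X.sheaf).map f) := rfl

lemma secMap_bijective (N : X.Modules) : Function.Bijective (secMap N) :=
  Ext.addEquiv₀.symm.bijective.comp ⟨zeroMap_injective X.sheaf N, zeroMap_surjective X.sheaf N⟩

lemma secMap_smul (N : X.Modules) (a : A) (f : OO X ⟶ N) : secMap N (a • f) = a • secMap N f := by
  have h1 : a • f = f ≫ Formal.smulMod A N a := by
    rw [← KLin.smul_id, Linear.comp_smul, Category.comp_id]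
  have h2 : a • secMap N f =
      Sheaf.H.map (Coh.smulAb N (Coh.toGlobal (X ↘ Spec (CommRingCat.of A)) a)) 0 (secMap N f) := rfl
  have h3 : (toAbF X.sheaf).map (f ≫ Formal.smulMod A N a) =
      (toAbF X.sheaf).map f ≫ Coh.smulAb N (Coh.toGlobal (X ↘ Spec (CommRingCat.of A)) a) :=
    (toAbF X.sheaf).map_comp f (Formal.smulMod A N a)
  rw [h2, h1]
  calc secMap N (f ≫ Formal.smulMod A N a)
      = Ext.mk₀ (eta X.sheaf ≫ ((toAbF X.sheaf).map f ≫
          Coh.smulAb N (Coh.toGlobal (X ↘ Spec (CommRingCat.of A)) a))) :=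
        congrArg (fun t => Ext.mk₀ (eta X.sheaf ≫ t)) h3
    _ = (Ext.mk₀ (eta X.sheaf ≫ (toAbF X.sheaf).map f)).comp
          (Ext.mk₀ (Coh.smulAb N (Coh.toGlobal (X ↘ Spec (CommRingCat.of A)) a))) (add_zero 0) := by
        rw [Ext.mk₀_comp_mk₀, Category.assoc]
    _ = _ := rfl

/-- `Hom(O, N) ≃ₗ[A] H^0(X, N)` -/
noncomputable def secLinEquiv (N : X.Modules) : (OO X ⟶ N) ≃ₗ[A] Coh.HH X N 0 :=
  LinearEquiv.ofBijective
    { toFun := secMap N
      map_add' := (secMap N).map_add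
      map_smul' := fun a f => secMap_smul A N a f }
    (secMap_bijective N)

end Groth.Agent.Lib.Helper2.ExtLin
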