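import Groth.Agent.Lib.Helper7.SerreVan
import Groth.Agent.Lib.Helper7.PushLinear
import Groth.Agent.Lib.Helper2.Mon.ProjClosed
import Groth.Agent.S0019
import Groth.Agent.S2357

/-!
# Serre vanishing on a closed subscheme of `P^n_A` (helper2)
-/

set_option autoImplicit false
universe u
open CategoryTheory CategoryTheory.Limits AlgebraicGeometry TopologicalSpace Opposite

namespace Groth.Agent.Lib.Helper2.ExtLin

open Groth.Agent.Lib.Helper7 Groth.Agent.Lib.Helper7.TwFun Groth.Agent.Lib.Helper2.Mon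

/-- variant: only the direct image is assumed coherent -/
theorem serre_vanishing_closed' (A : Type u) [CommRing A] [IsNoetherianRing A] (n : ℕ)
    {X : Scheme.{u}} (ι : X ⟶ CohB1.ProjSpace n A) [IsClosedImmersion ι]
    (M : X.Modules) (hM : Coh.IsCoh ((Scheme.Modules.pushforward ι).obj M)) :
    ∃ d₀ : ℤ, ∀ d : ℤ, d₀ ≤ d → ∀ i : ℕ, 1 ≤ i →
      Subsingleton (Coh.HH X (CohB1.tensorMod M
        ((Scheme.Modules.pullback ι).obj (Twist.twistProjSpace n A d))) i) := by
  obtain ⟨d₀, h⟩ := SerreVan.serre_vanishing n A _ hM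
  refine ⟨d₀, fun d hd i hi => ?_⟩
  have h1 := h d hd i hi
  have e := PushLinear.pushEquiv ι (CohB1.tensorMod M
    ((Scheme.Modules.pullback ι).obj (Twist.twistProjSpace n A d))) i
  have h2 : Subsingleton (Coh.HH (CohB1.ProjSpace n A) ((Scheme.Modules.pushforward ι).obj
      (CohB1.tensorMod M ((Scheme.Modules.pullback ι).obj (Twist.twistProjSpace n A d)))) i) :=
    subsingleton_HH_of_iso (projIso ι M (Twist.twistProjSpace n A d)).symm i h1
  exact e.toEquiv.subsingleton

theorem serre_vanishing_closed (A : Type u) [CommRing A] [IsNoetherianRing A] (n : ℕ)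
    {X : Scheme.{u}} (ι : X ⟶ CohB1.ProjSpace n A) [IsClosedImmersion ι]
    (M : X.Modules) (hM : Coh.IsCoh M) :
    ∃ d₀ : ℤ, ∀ d : ℤ, d₀ ≤ d → ∀ i : ℕ, 1 ≤ i →
      Subsingleton (Coh.HH X (CohB1.tensorMod M
        ((Scheme.Modules.pullback ι).obj (Twist.twistProjSpace n A d))) i) := by
  haveI : IsNoetherian (CohB1.ProjSpace n A) := Groth.Agent.S2357.result (CohB1.polyGrading n A)
  obtain ⟨d₀, h⟩ := SerreVan.serre_vanishing n A _ (Groth.Agent.S0019.result ι M hM)
  refine ⟨d₀, fun d hd i hi => ?_⟩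
  have h1 := h d hd i hi
  have e := PushLinear.pushEquiv ι (CohB1.tensorMod M
    ((Scheme.Modules.pullback ι).obj (Twist.twistProjSpace n A d))) i
  have h2 : Subsingleton (Coh.HH (CohB1.ProjSpace n A) ((Scheme.Modules.pushforward ι).obj
      (CohB1.tensorMod M ((Scheme.Modules.pullback ι).obj (Twist.twistProjSpace n A d)))) i) :=
    subsingleton_HH_of_iso (projIso ι M (Twist.twistProjSpace n A d)).symm i h1
  exact e.toEquiv.subsingleton

end Groth.Agent.Lib.Helper2.ExtLin
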