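import Groth.Agent.Lib.Helper2.ExtLin.Main
import Groth.Agent.Lib.Helper2.ExtLin.Twist
import Groth.Agent.Lib.Helper2.ExtLin.SerreClosed
import Groth.Agent.Lib.Helper17.LocFreeOps
import Groth.Agent.Lib.Helper17.AmpleFin
import Groth.Agent.S10943

/-!
# `Ext^m(F, G(d)) ≃ₗ[A] Γ(X, ℰxt^m(F, G(d)))` for `d ≫ 0` on a closed subscheme of `P^n_A` (helper2)
-/

set_option autoImplicit false
universe u
open CategoryTheory CategoryTheory.Limits AlgebraicGeometry TopologicalSpace Opposite

namespace Groth.Agent.Lib.Helper2.ExtLin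

open Groth.Agent.Lib.Helper7 Groth.Agent.Lib.Helper7.TwFun

theorem exists_twist_linearEquiv (A : Type u) [CommRing A] [IsNoetherianRing A] (n : ℕ)
    (X : Scheme.{u}) [X.Over (Spec (CommRingCat.of A))] (ι : X ⟶ CohB1.ProjSpace n A)
    [IsClosedImmersion ι] [HasExt.{u} X.Modules] (F G : X.Modules) (hF : Coh.IsCoh F)
    (hG : Coh.IsCoh G) [ModSite.HasSheafHom (O := X.sheaf) F]
    [HasInjectiveResolutions (ModSite.Mod X.sheaf)] (m : ℕ) :
    ∃ d₀ : ℕ, ∀ d : ℕ, d₀ ≤ d →
      Nonempty (Abelian.Ext F (CohB1.tensorMod G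
          ((Scheme.Modules.pullback ι).obj (Twist.twistProjSpace n A (d : ℤ)))) m ≃ₗ[A]
        Coh.HH X ((ModSite.extSh (O := X.sheaf) F m).obj (CohB1.tensorMod G
          ((Scheme.Modules.pullback ι).obj (Twist.twistProjSpace n A (d : ℤ))))) 0) := by
  haveI h1 : HasInjectiveResolutions X.Modules := ‹HasInjectiveResolutions (ModSite.Mod X.sheaf)›
  haveI : IsNoetherian (CohB1.ProjSpace n A) := Groth.Agent.S2357.result (CohB1.polyGrading n A)
  haveI : IsLocallyNoetherian X := LocallyOfFiniteType.isLocallyNoetherian ι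
  haveI : CompactSpace X := QuasiCompact.compactSpace_of_compactSpace ι
  haveI : IsNoetherian X := {}
  have hL : ∀ d : ℤ, FlatMod.IsFinLocFree
      ((Scheme.Modules.pullback ι).obj (Twist.twistProjSpace n A d)) := fun d =>
    Groth.Agent.Lib.Helper17.LocFreeOps.isFinLocFree_pullback ι _
      (Groth.Agent.Lib.Helper17.AmpleFin.isFinLocFree_of_isInvertible
        (TwProj.isInvertible_twist (Mumford.hU n A) d))
  have hcoh : ∀ q : ℕ, Coh.IsCoh ((ModSite.extSh (O := X.sheaf) F q).obj G) := fun q =>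
    Groth.Agent.S10943.result X F G hF hG q
  choose dq hdq using fun q : ℕ => serre_vanishing_closed A n ι _ (hcoh q)
  refine ⟨(Finset.range m).sup (fun q => (dq q).toNat), fun d hd => ?_⟩
  refine nonempty_ext_linearEquiv_sections A F _ m (fun p q hp hq => ?_)
  obtain ⟨e⟩ := nonempty_extSh_tensor_iso F G _ (hL (d : ℤ)) q
  refine subsingleton_HH_of_iso e p (hdq q (d : ℤ) ?_ p hp)
  have h2 : (dq q).toNat ≤ (Finset.range m).sup (fun q => (dq q).toNat) :=
    Finset.le_sup (f := fun q => (dq q).toNat) (Finset.mem_range.mpr hq)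
  have h3 := Int.self_le_toNat (dq q)
  omega

end Groth.Agent.Lib.Helper2.ExtLin
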